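import Mathlib

/-!
# A weak form of Sylvester's theorem

If all prime divisors of `C(m,k)` are at most the prime `r` and `r ∣ C(m,k)`, then the last digits of
`k` and `m - k` in base `r` produce a carry.
-/

set_option autoImplicit false

namespace CfsgLib.AltDerange

open Finset

theorem pow_le_choose_mul_pow : ∀ {r m : ℕ}, r ≤ m → m ^ r ≤ Nat.choose m r * r ^ r := by
  intro r
  induction r with
  | zero => intro m _; simp
  | succ r ih =>
    intro m hm
    obtain ⟨m, rfl⟩ := Nat.exists_eq_add_of_le' (by omega : 1 ≤ m)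
    rcases r.eq_zero_or_pos with rfl | hr
    · simp
    have h1 := ih (m := m) (by omega)
    have h2 : (m + 1) * r ≤ (r + 1) * m := by nlinarith
    have h3 : ((m + 1) * r) ^ r ≤ ((r + 1) * m) ^ r := Nat.pow_le_pow_left h2 r
    rw [mul_pow, mul_pow] at h3
    have h4 : (m + 1) ^ r * r ^ r ≤ (r + 1) ^ r * Nat.choose m r * r ^ r := by
      calc (m + 1) ^ r * r ^ r ≤ (r + 1) ^ r * m ^ r := h3
        _ ≤ (r + 1) ^ r * (Nat.choose m r * r ^ r) := Nat.mul_le_mul_left _ h1
        _ = _ := by ring
    have h5 : (m + 1) ^ r ≤ (r + 1) ^ r * Nat.choose m r :=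
      Nat.le_of_mul_le_mul_right h4 (pow_pos hr r)
    calc (m + 1) ^ (r + 1) = (m + 1) * (m + 1) ^ r := by ring
      _ ≤ (m + 1) * ((r + 1) ^ r * Nat.choose m r) := Nat.mul_le_mul_left _ h5
      _ = (r + 1) ^ r * ((m + 1) * Nat.choose m r) := by ring
      _ = (r + 1) ^ r * (Nat.choose (m + 1) (r + 1) * (r + 1)) := by rw [Nat.add_one_mul_choose_eq]
      _ = _ := by ring

theorem card_primes_le {r : ℕ} (hr : 11 ≤ r) (hodd : Odd r) :
    ((range (r + 1)).filter Nat.Prime).card ≤ r / 2 := by
  obtain ⟨j, rfl⟩ := hodd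
  have hsub : (range (2 * j + 1 + 1)).filter Nat.Prime ⊆
      insert 2 ((((range (j + 1)).erase 0).erase 4).image fun i => 2 * i + 1) := by
    intro p hp
    obtain ⟨hlt, hp⟩ := mem_filter.mp hp
    rw [mem_range] at hlt
    rcases hp.eq_two_or_odd' with rfl | ⟨i, rfl⟩
    · exact mem_insert_self _ _
    · refine mem_insert_of_mem (mem_image.mpr ⟨i, ?_, rfl⟩)
      refine mem_erase.mpr ⟨?_, mem_erase.mpr ⟨?_, mem_range.mpr (by omega)⟩⟩
      · rintro rfl; norm_num at hp
      · rintro rfl; norm_num at hp
  refine (card_le_card hsub).trans ((card_insert_le _ _).trans ?_)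
  refine (Nat.add_le_add_right card_image_le 1).trans ?_
  rw [card_erase_of_mem (mem_erase.mpr ⟨by omega, mem_range.mpr (by omega)⟩),
    card_erase_of_mem (mem_range.mpr (by omega)), card_range]
  omega

theorem choose_gt {r m : ℕ} (hr : r.Prime) (hm : r * r ≤ m) (hm5 : 5 ≤ m) :
    m ^ ((range (r + 1)).filter Nat.Prime).card < Nat.choose m r := by
  by_cases h11 : 11 ≤ r
  · have hodd : Odd r := hr.odd_of_ne_two (by omega)
    refine lt_of_le_of_lt (Nat.pow_le_pow_right (by omega) (card_primes_le h11 hodd)) ?_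
    obtain ⟨j, hj⟩ := hodd
    by_contra h
    push Not at h
    have h1 := (pow_le_choose_mul_pow (show r ≤ m by nlinarith)).trans (Nat.mul_le_mul_right _ h)
    rw [show r / 2 = j by omega] at h1
    have e : m ^ r = m ^ j * m ^ (j + 1) := by
      rw [← pow_add, show j + (j + 1) = r by omega]
    rw [e] at h1
    have h2 : m ^ (j + 1) ≤ r ^ r := Nat.le_of_mul_le_mul_left h1 (pow_pos (by omega) j)
    have h3 : r ^ (2 * (j + 1)) ≤ m ^ (j + 1) := by
      rw [pow_mul, pow_two]
      exact Nat.pow_le_pow_left hm _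
    have h4 : r ^ r < r ^ (2 * (j + 1)) := Nat.pow_lt_pow_right hr.one_lt (by omega)
    omega
  · have hd := Nat.descFactorial_eq_factorial_mul_choose m r
    have hlt : r < 11 := by omega
    interval_cases r
    all_goals try (exfalso; norm_num at hr; done)
    · rw [show ((range 3).filter Nat.Prime).card = 1 by decide]
      simp [Nat.descFactorial, Nat.factorial] at hd
      obtain ⟨t, rfl⟩ := Nat.exists_eq_add_of_le' hm5
      rw [show t + 5 - 1 = t + 4 by omega] at hd
      nlinarith
    · rw [show ((range 4).filter Nat.Prime).card = 2 by decide]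
      simp [Nat.descFactorial, Nat.factorial] at hd
      obtain ⟨t, rfl⟩ := Nat.exists_eq_add_of_le' hm
      rw [show t + 3 * 3 - 1 = t + 8 by omega, show t + 3 * 3 - 2 = t + 7 by omega] at hd
      nlinarith
    · rw [show ((range 6).filter Nat.Prime).card = 3 by decide]
      simp [Nat.descFactorial, Nat.factorial] at hd
      obtain ⟨t, rfl⟩ := Nat.exists_eq_add_of_le' hm
      simp only [show t + 5 * 5 - 1 = t + 24 by omega, show t + 5 * 5 - 2 = t + 23 by omega,
        show t + 5 * 5 - 3 = t + 22 by omega, show t + 5 * 5 - 4 = t + 21 by omega] at hd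
      have hp : 120 * (t + 25) ^ 2 < (t + 24) * (t + 21) * ((t + 23) * (t + 22)) := by
        have a1 : 11 * (t + 25) ≤ (t + 24) * (t + 21) := by nlinarith
        have a2 : 11 * (t + 25) ≤ (t + 23) * (t + 22) := by nlinarith
        have := Nat.mul_le_mul a1 a2
        nlinarith
      have hpos : 0 < t + 25 := by omega
      have := Nat.mul_lt_mul_of_pos_left hp hpos
      nlinarith
    · rw [show ((range 8).filter Nat.Prime).card = 4 by decide]
      simp [Nat.descFactorial, Nat.factorial] at hd
      obtain ⟨t, rfl⟩ := Nat.exists_eq_add_of_le' hm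
      simp only [show t + 7 * 7 - 1 = t + 48 by omega, show t + 7 * 7 - 2 = t + 47 by omega,
        show t + 7 * 7 - 3 = t + 46 by omega, show t + 7 * 7 - 4 = t + 45 by omega,
        show t + 7 * 7 - 5 = t + 44 by omega, show t + 7 * 7 - 6 = t + 43 by omega] at hd
      have a1 : 18 * (t + 49) ≤ (t + 48) * (t + 43) := by nlinarith
      have a2 : 18 * (t + 49) ≤ (t + 47) * (t + 44) := by nlinarith
      have a3 : 18 * (t + 49) ≤ (t + 46) * (t + 45) := by nlinarith
      have hp : 5040 * (t + 49) ^ 3 < (t + 48) * (t + 43) * ((t + 47) * (t + 44)) * ((t + 46) * (t + 45)) := by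
        refine lt_of_lt_of_le ?_ (Nat.mul_le_mul (Nat.mul_le_mul a1 a2) a3)
        nlinarith [pow_pos (show 0 < t + 49 by omega) 3]
      have := Nat.mul_lt_mul_of_pos_left hp (show 0 < t + 49 by omega)
      nlinarith

theorem choose_mono_right {m k r : ℕ} (hrk : r ≤ k) (hk : r + k ≤ m) :
    Nat.choose m r ≤ Nat.choose m k := by
  wlog h2 : 2 * k ≤ m generalizing k
  · rw [← Nat.choose_symm (show k ≤ m by omega)]
    exact this (by omega) (by omega) (by omega)
  clear hk
  induction k, hrk using Nat.le_induction with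
  | base => exact le_rfl
  | succ j hj ih => exact (ih (by omega)).trans (Nat.choose_le_succ_of_lt_half_left (by omega))

theorem choose_le_of_primes {m k r : ℕ} (hkm : k ≤ m) (hmax : ∀ s : ℕ, s.Prime → s ∣ Nat.choose m k → s ≤ r)
    (hm : 0 < m) : Nat.choose m k ≤ m ^ ((range (r + 1)).filter Nat.Prime).card := by
  have hne : Nat.choose m k ≠ 0 := (Nat.choose_pos hkm).ne'
  have hsub : (Nat.choose m k).factorization.support ⊆ (range (r + 1)).filter Nat.Prime := by
    intro p hp
    rw [Nat.support_factorization, Nat.mem_primeFactors] at hp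
    exact mem_filter.mpr ⟨mem_range.mpr (Nat.lt_succ_of_le (hmax p hp.1 hp.2.1)), hp.1⟩
  calc Nat.choose m k = ∏ p ∈ (Nat.choose m k).factorization.support,
        p ^ (Nat.choose m k).factorization p := (Nat.prod_factorization_pow_eq_self hne).symm
    _ ≤ ∏ p ∈ (Nat.choose m k).factorization.support, m :=
        Finset.prod_le_prod' fun p _ => Nat.pow_factorization_choose_le hm
    _ = m ^ (Nat.choose m k).factorization.support.card := prod_const m
    _ ≤ _ := Nat.pow_le_pow_right hm (card_le_card hsub)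

theorem last_digit {m k r : ℕ} (hr : r.Prime) (hm5 : 5 ≤ m) (hk : k ≤ m)
    (hrd : r ∣ Nat.choose m k) (hmax : ∀ s : ℕ, s.Prime → s ∣ Nat.choose m k → s ≤ r) :
    m % r < k % r ∧ (r = 2 → k = 1 ∨ k + 1 = m) := by
  have hne : k ≠ 0 ∧ k ≠ m := by
    constructor <;> rintro rfl <;> simp at hrd <;> exact hr.ne_one hrd
  have hbig : r ≤ k → r + k ≤ m → r * r ≤ m → False := fun h1 h2 h3 => by
    have := (choose_gt hr h3 hm5).trans_le ((choose_mono_right h1 h2).trans
      (choose_le_of_primes hk hmax (by omega)))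
    omega
  refine ⟨?_, ?_⟩
  · by_contra hle
    push Not at hle
    haveI := Fact.mk hr
    have hmr := Nat.mod_lt m hr.pos
    have hlow : ¬ r ∣ Nat.choose (m % r) (k % r) := fun h => by
      have h' := h.trans ⟨_, (Nat.choose_mul_factorial_mul_factorial hle).symm.trans (mul_assoc _ _ _)⟩
      exact absurd (hr.dvd_factorial.mp h') (by omega)
    have hd : r ∣ Nat.choose (m / r) (k / r) := by
      have h := (Choose.choose_modEq_choose_mod_mul_choose_div_nat (n := m) (k := k) (p := r))
      have h' : r ∣ Nat.choose (m % r) (k % r) * Nat.choose (m / r) (k / r) :=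
        (Nat.ModEq.dvd_iff h dvd_rfl).mp hrd
      exact (hr.dvd_mul.mp h').resolve_left hlow
    have hk1 : k / r ≠ 0 := fun h => by simp [h] at hd; exact hr.ne_one hd
    have hk2 : k / r < m / r := by
      rcases lt_trichotomy (k / r) (m / r) with h | h | h
      · exact h
      · rw [h, Nat.choose_self, Nat.dvd_one] at hd; exact absurd hd hr.ne_one
      · exact absurd (Nat.div_le_div_right hk) (not_le.mpr h)
    have hmr2 : r ≤ m / r := by
      have h' := hd.trans ⟨_, (Nat.choose_mul_factorial_mul_factorial hk2.le).symm.trans (mul_assoc _ _ _)⟩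
      exact hr.dvd_factorial.mp h'
    have e1 := Nat.div_add_mod m r
    have e2 := Nat.div_add_mod k r
    have hpos := hr.pos
    refine hbig ?_ ?_ ?_
    · have h1 : r * 1 ≤ r * (k / r) := Nat.mul_le_mul_left r (Nat.one_le_iff_ne_zero.mpr hk1)
      omega
    · have h1 : r * (k / r + 1) ≤ r * (m / r) := Nat.mul_le_mul_left r hk2
      rw [mul_add, mul_one] at h1
      omega
    · have h1 : r * r ≤ r * (m / r) := Nat.mul_le_mul_left r hmr2
      omega
  · rintro rfl
    by_contra h
    push Not at h
    exact hbig (by omega) (by omega) (by omega)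

end CfsgLib.AltDerange
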