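import Cfsg.Agent.Lib.AltDerange.Binom
import Cfsg.Agent.Lib.Perm.JordanPrime

/-!
# Derangements of the largest prime order dividing the index of a maximal subgroup of `A_m` or `S_m`
-/

set_option autoImplicit false
set_option linter.unusedSectionVars false
set_option linter.style.haveILetI false

open scoped Pointwise

namespace CfsgLib.AltDerange

open Equiv Finset

variable {m : ℕ}

theorem exists_cycles {r q : ℕ} (hr : 2 ≤ r) (hq : 0 < q) (hle : q * r ≤ m) :
    ∃ σ : Perm (Fin m), σ.cycleType = Multiset.replicate q r ∧ orderOf σ = r ∧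
      σ.support.card = q * r := by
  obtain ⟨σ, hσ⟩ := (Equiv.Perm.exists_with_cycleType_iff (α := Fin m) (m := Multiset.replicate q r)).mpr
    ⟨by simpa using hle, fun a ha => by rw [Multiset.eq_of_mem_replicate ha]; exact hr⟩
  refine ⟨σ, hσ, ?_, ?_⟩
  · rw [← Equiv.Perm.lcm_cycleType, hσ]
    obtain ⟨q, rfl⟩ := Nat.exists_eq_succ_of_ne_zero hq.ne'
    clear hσ hle hq
    induction q with
    | zero => simp
    | succ q ih => rw [Multiset.replicate_succ, Multiset.lcm_cons, ih]; simp
  · rw [← σ.sum_cycleType, hσ]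
    simp

theorem mem_alt_of_cycles {r q : ℕ} {σ : Perm (Fin m)} (hσ : σ.cycleType = Multiset.replicate q r)
    (h : Odd r ∨ Even q) : σ ∈ alternatingGroup (Fin m) := by
  rw [Equiv.Perm.mem_alternatingGroup, Equiv.Perm.sign_of_cycleType, hσ, Multiset.sum_replicate,
    Multiset.card_replicate, smul_eq_mul]
  have : Even (q * r + q) := by
    rcases h with h | h
    · rw [show q * r + q = q * (r + 1) by ring]
      exact (h.add_one).mul_left q
    · exact (h.mul_right r).add h
  exact Even.neg_one_pow this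

/-- A permutation preserving a `k`-set and having all cycles of length `r` and few fixed points. -/
theorem mod_le_of_preserves {r : ℕ} [hr : Fact r.Prime] {σ : Perm (Fin m)} (hσ : σ ^ r = 1)
    (hsupp : σ.support.card = m / r * r) {S : Finset (Fin m)} (hS : ∀ x ∈ S, σ x ∈ S) :
    S.card % r ≤ m % r := by
  classical
  have hS' : ∀ x, σ x ∈ S ↔ x ∈ S := by
    have himg : S.image σ = S := Finset.eq_of_subset_of_card_le
      (Finset.image_subset_iff.mpr hS) (by rw [Finset.card_image_of_injective _ σ.injective])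
    intro x
    refine ⟨fun h => ?_, hS x⟩
    rw [← himg, Finset.mem_image] at h
    obtain ⟨y, hy, hyx⟩ := h
    exact σ.injective hyx ▸ hy
  let τ : Perm {x // x ∈ S} := σ.subtypePerm hS'
  have hτ : τ ^ r ^ 1 = 1 := by
    rw [pow_one, Equiv.Perm.subtypePerm_pow]
    ext x
    simp [hσ]
  have h1 := Equiv.Perm.card_compl_support_modEq (p := r) (n := 1) hτ
  rw [Fintype.card_coe] at h1
  have hle : (τ.supportᶜ).card ≤ (σ.supportᶜ).card := by
    refine Finset.card_le_card_of_injOn (fun x => (x : Fin m)) (fun x hx => ?_)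
      (fun x _ y _ h => Subtype.ext h)
    simp only [Finset.mem_coe, Finset.mem_compl, Equiv.Perm.mem_support, not_not] at hx ⊢
    exact congrArg Subtype.val hx
  have hc : (σ.supportᶜ).card = m % r := by
    rw [Finset.card_compl, Fintype.card_fin, hsupp]
    have := Nat.div_add_mod m r
    rw [mul_comm r] at this
    omega
  have hlt : (τ.supportᶜ).card < r := (hle.trans hc.le).trans_lt (Nat.mod_lt m hr.out.pos)
  have h2 : (τ.supportᶜ).card = S.card % r := by
    have e : (τ.supportᶜ).card % r = S.card % r := h1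
    rwa [Nat.mod_eq_of_lt hlt] at e
  omega

/-- Some even permutation maps one `k`-set to another. -/
theorem exists_alt_map (hm : 4 ≤ m) {S S' : Finset (Fin m)} (h : S.card = S'.card) :
    ∃ a ∈ alternatingGroup (Fin m), S.image a = S' := by
  classical
  obtain ⟨e, he⟩ : ∃ e : Perm (Fin m), S.image e = S' := by
    refine ⟨(Finset.equivOfCardEq h).extendSubtype, ?_⟩
    refine Finset.eq_of_subset_of_card_le (Finset.image_subset_iff.mpr fun x hx => ?_) ?_
    · exact Equiv.extendSubtype_mem _ x hx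
    · rw [Finset.card_image_of_injective _ (Equiv.injective _), h]
  rcases Int.units_eq_one_or (Equiv.Perm.sign e) with hs | hs
  · exact ⟨e, Equiv.Perm.mem_alternatingGroup.mpr hs, he⟩
  obtain ⟨x, y, hxy, hiff⟩ : ∃ x y : Fin m, x ≠ y ∧ (x ∈ S' ↔ y ∈ S') := by
    by_cases h2 : 2 ≤ S'.card
    · obtain ⟨x, hx, y, hy, hxy⟩ := Finset.one_lt_card.mp h2
      exact ⟨x, y, hxy, iff_of_true hx hy⟩
    · have h3 : 1 < (S'ᶜ).card := by rw [Finset.card_compl, Fintype.card_fin]; omega
      obtain ⟨x, hx, y, hy, hxy⟩ := Finset.one_lt_card.mp h3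
      rw [Finset.mem_compl] at hx hy
      exact ⟨x, y, hxy, iff_of_false hx hy⟩
  refine ⟨Equiv.swap x y * e, ?_, ?_⟩
  · rw [Equiv.Perm.mem_alternatingGroup, map_mul, Equiv.Perm.sign_swap hxy, hs]
    rfl
  · rw [Equiv.Perm.coe_mul, ← Finset.image_image, he]
    refine Finset.eq_of_subset_of_card_le (Finset.image_subset_iff.mpr fun z hz => ?_)
      (by rw [Finset.card_image_of_injective _ (Equiv.injective _)])
    rcases eq_or_ne z x with rfl | hzx
    · rw [Equiv.swap_apply_left]; exact hiff.mp hz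
    rcases eq_or_ne z y with rfl | hzy
    · rw [Equiv.swap_apply_right]; exact hiff.mpr hz
    rwa [Equiv.swap_apply_of_ne_of_ne hzx hzy]

/-- Elements of order prime to the index are conjugate into a subgroup. -/
theorem exists_conj_mem {G : Type*} [Group G] [Finite G] {s : ℕ} [Fact s.Prime] (M : Subgroup G)
    (hs : ¬ s ∣ M.index) {c : G} (hc : ∃ k, orderOf c = s ^ k) : ∃ a : G, a * c * a⁻¹ ∈ M := by
  obtain ⟨k, hk⟩ := hc
  obtain ⟨P, hP⟩ := (IsPGroup.of_card (p := s) (n := k) (G := Subgroup.zpowers c)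
    (by rw [Nat.card_zpowers, hk])).exists_le_sylow
  obtain ⟨Q⟩ : Nonempty (Sylow s M) := inferInstance
  let Q' : Sylow s G := Sylow.ofCard ((Q : Subgroup M).map M.subtype) (by
    rw [Nat.card_congr ((Q : Subgroup M).equivMapOfInjective M.subtype M.subtype_injective).toEquiv.symm,
      Q.card_eq_multiplicity, ← M.index_mul_card, Nat.factorization_mul M.index_ne_zero_of_finite Nat.card_pos.ne']
    simp [Nat.factorization_eq_zero_of_not_dvd hs])
  obtain ⟨a, ha⟩ := MulAction.exists_smul_eq G P Q'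
  refine ⟨a, ?_⟩
  have h1 : a * c * a⁻¹ ∈ (Q' : Subgroup G) := by
    rw [← ha, Sylow.coe_subgroup_smul]
    exact ⟨c, hP (Subgroup.mem_zpowers c), by simp⟩
  obtain ⟨x, -, hx⟩ := h1
  rw [← hx]
  exact x.2

/-- The data: a maximal subgroup `H` of `Γ ∈ {A_m, S_m}` of index `n` and its trace `M` on `A_m`. -/
structure Data (Γ H : Subgroup (Perm (Fin m))) (n : ℕ) : Prop where
  five : 5 ≤ m
  alt_le : alternatingGroup (Fin m) ≤ Γ
  le : H ≤ Γ
  max : ∀ K : Subgroup (Perm (Fin m)), H ≤ K → K ≤ Γ → K ≠ Γ → K = H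
  not_le : ¬ alternatingGroup (Fin m) ≤ H
  index : n = (H.subgroupOf (alternatingGroup (Fin m))).index

/-- An element of order `r` of `A_m` with no conjugate in `H`. -/
def Avoids (H : Subgroup (Perm (Fin m))) (r : ℕ) : Prop :=
  ∃ σ ∈ alternatingGroup (Fin m), orderOf σ = r ∧ ∀ τ : Perm (Fin m), τ * σ * τ⁻¹ ∉ H

theorem Data.intransitive {Γ H : Subgroup (Perm (Fin m))} {n r : ℕ} (d : Data Γ H n)
    (hintr : ¬ MulAction.IsPretransitive H (Fin m)) (hr : r.Prime) (hrd : r ∣ n)
    (hmax : ∀ s : ℕ, s.Prime → s ∣ n → s ≤ r) : Avoids H r := by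
  classical
  have hm := d.five
  haveI := Fact.mk hr
  obtain ⟨a, b, hab⟩ : ∃ a b : Fin m, ∀ h : H, h • a ≠ b := by
    by_contra h
    push Not at h
    exact hintr ⟨h⟩
  set S : Finset (Fin m) := univ.filter fun x => x ∈ MulAction.orbit H a with hS
  have hmemS : ∀ x, x ∈ S ↔ x ∈ MulAction.orbit H a := fun x => by simp [hS]
  have haS : a ∈ S := (hmemS a).mpr (MulAction.mem_orbit_self a)
  have hbS : b ∉ S := fun h => by
    obtain ⟨g, hg⟩ := (hmemS b).mp h
    exact hab g hg
  set k := S.card with hk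
  have hk0 : 0 < k := Finset.card_pos.mpr ⟨a, haS⟩
  have hkm : k < m := by
    have := Finset.card_lt_univ_of_notMem hbS
    rwa [Fintype.card_fin] at this
  have hHS : ∀ h ∈ H, h • S = S := by
    intro h hh
    refine Finset.eq_of_subset_of_card_le (fun x hx => ?_) (by rw [Finset.card_smul_finset])
    obtain ⟨y, hy, rfl⟩ := Finset.mem_smul_finset.mp hx
    obtain ⟨g, hg⟩ := (hmemS y).mp hy
    exact (hmemS _).mpr ⟨⟨h, hh⟩ * g, by show (⟨h, hh⟩ * g : H) • a = h • y; rw [mul_smul, ← hg]; rfl⟩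
  have hK : MulAction.stabilizer (Perm (Fin m)) S ⊓ Γ = H := by
    refine d.max _ (fun h hh => ⟨MulAction.mem_stabilizer_iff.mpr (hHS h hh), d.le hh⟩) inf_le_right ?_
    intro h
    obtain ⟨S', hS', hSne⟩ : ∃ S' : Finset (Fin m), S.card = S'.card ∧ S' ≠ S := by
      refine ⟨insert b (S.erase a), ?_, fun e => hbS (e ▸ Finset.mem_insert_self b _)⟩
      rw [Finset.card_insert_of_notMem (fun h' => hbS (Finset.mem_of_mem_erase h')),
        Finset.card_erase_of_mem haS]
      omega
    obtain ⟨t, ht, htS⟩ := exists_alt_map (by omega) hS'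
    have : t ∈ MulAction.stabilizer (Perm (Fin m)) S := ((SetLike.ext_iff.mp h t).mpr (d.alt_le ht)).1
    refine hSne ?_
    rw [← htS]
    exact MulAction.mem_stabilizer_iff.mp this
  have hsub : H.subgroupOf (alternatingGroup (Fin m)) =
      MulAction.stabilizer (alternatingGroup (Fin m)) S := by
    ext g
    rw [Subgroup.mem_subgroupOf, ← hK, Subgroup.mem_inf]
    exact ⟨fun h => h.1, fun h => ⟨h, d.alt_le g.2⟩⟩
  have hn : n = Nat.choose m k := by
    rw [d.index, hsub, MulAction.index_stabilizer]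
    have : MulAction.orbit (alternatingGroup (Fin m)) S = ↑((univ : Finset (Fin m)).powersetCard k) := by
      ext S'
      rw [Finset.mem_coe, Finset.mem_powersetCard]
      constructor
      · rintro ⟨g, rfl⟩
        exact ⟨Finset.subset_univ _, Finset.card_smul_finset g S⟩
      · rintro ⟨-, hc⟩
        obtain ⟨t, ht, htS⟩ := exists_alt_map (by omega) (show S.card = S'.card from hc.symm)
        exact ⟨⟨t, ht⟩, htS⟩
    rw [this, Set.ncard_coe_finset, Finset.card_powersetCard, Finset.card_univ, Fintype.card_fin]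
  obtain ⟨hlt, htwo⟩ := last_digit hr hm hkm.le (hn ▸ hrd) fun s hs hsd => hmax s hs (hn ▸ hsd)
  have hrm : r ≤ m := hr.dvd_factorial.mp ((hn ▸ hrd).trans ⟨_, (Nat.choose_mul_factorial_mul_factorial hkm.le).symm.trans (mul_assoc _ _ _)⟩)
  obtain ⟨σ, hσ, hor, hcard⟩ := exists_cycles (m := m) (q := m / r) hr.two_le
    (Nat.div_pos hrm hr.pos) (Nat.div_mul_le_self m r)
  refine ⟨σ, mem_alt_of_cycles hσ ?_, hor, fun τ hτ => ?_⟩
  · rcases hr.eq_two_or_odd' with h2 | h2
    · subst h2
      refine Or.inr ?_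
      -- `m = n` is a power of two
      have hnm : n = m := by
        rcases htwo rfl with h1 | h1
        · rw [hn, h1, Nat.choose_one_right]
        · rw [hn, ← Nat.choose_symm hkm.le, show m - k = 1 by omega, Nat.choose_one_right]
      have hp := Nat.eq_prime_pow_of_unique_prime_dvd (p := 2) (show m ≠ 0 by omega) fun {s} hs hsd =>
        le_antisymm (hmax s hs (hnm ▸ hsd)) hs.two_le
      rcases hl : m.primeFactorsList.length with _ | _ | e
      · rw [hl] at hp; omega
      · rw [hl] at hp; omega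
      · rw [hl] at hp
        rw [hp, pow_succ, Nat.mul_div_cancel _ two_pos, pow_succ]
        exact even_two.mul_left _
    · exact Or.inl h2
  · have hfix := hHS _ hτ
    have h := mod_le_of_preserves (σ := σ) (by rw [← hor, pow_orderOf_eq_one]) hcard
      (S := τ⁻¹ • S) (fun x hx => ?_)
    · rw [Finset.card_smul_finset, ← hk] at h
      omega
    · rw [Finset.mem_smul_finset] at hx ⊢
      obtain ⟨y, hy, rfl⟩ := hx
      refine ⟨(τ * σ * τ⁻¹) y, ?_, ?_⟩
      · rw [← hfix]
        exact Finset.mem_smul_finset.mpr ⟨y, hy, rfl⟩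
      · simp [Equiv.Perm.smul_def, mul_apply]

theorem prime_cycle {s : ℕ} (hs : s.Prime) (hsm : s ≤ m) :
    ∃ σ : Perm (Fin m), σ.IsCycle ∧ σ.support.card = s ∧ orderOf σ = s ∧
      (Odd s → σ ∈ alternatingGroup (Fin m)) := by
  obtain ⟨σ, hσ, hor, hc⟩ := exists_cycles (m := m) (q := 1) hs.two_le one_pos (by omega)
  exact ⟨σ, Equiv.Perm.card_cycleType_eq_one.mp (by simp [hσ]), by simpa using hc, hor,
    fun h => mem_alt_of_cycles hσ (Or.inl h)⟩

theorem factorization_factorial {r : ℕ} (hr : r.Prime) (h1 : r ≤ m) (h2 : m < 2 * r) :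
    m.factorial.factorization r = 1 := by
  haveI := Fact.mk hr
  rw [Nat.factorization_def _ hr, padicValNat_factorial (b := 2) ((Nat.log_lt_iff_lt_pow hr.one_lt (by omega)).mpr (by nlinarith [hr.two_le]))]
  simp [Finset.sum_Ico_succ_top, Nat.div_eq_of_lt_le (show 1 * r ≤ m by omega) (show m < (1 + 1) * r by omega)]

theorem Data.transitive {Γ H : Subgroup (Perm (Fin m))} {n r : ℕ} (d : Data Γ H n)
    (htr : MulAction.IsPretransitive H (Fin m)) (hr : r.Prime) (hrd : r ∣ n)
    (hmax : ∀ s : ℕ, s.Prime → s ∣ n → s ≤ r) : Avoids H r := by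
  classical
  have hm := d.five
  haveI := Fact.mk hr
  haveI : Nontrivial (Fin m) := Fin.nontrivial_iff_two_le.mpr (by omega)
  set A := alternatingGroup (Fin m) with hA
  have hnA : n * Nat.card (H.subgroupOf A) = Nat.card A := by
    rw [d.index, Subgroup.index_mul_card]
  have hA2 : 2 * Nat.card A = m.factorial := by
    rw [two_mul_nat_card_alternatingGroup, Nat.card_perm, Nat.card_fin]
  have hrm : r ≤ m := hr.dvd_factorial.mp (hrd.trans ⟨Nat.card (H.subgroupOf A) * 2, by
    rw [← hA2, ← hnA]; ring⟩)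
  by_cases hbig : m < 2 * r
  · -- the Sylow subgroup has order `r`
    have hodd : Odd r := hr.odd_of_ne_two (by omega)
    obtain ⟨σ, -, -, hor, halt⟩ := prime_cycle hr hrm
    refine ⟨σ, halt hodd, hor, fun τ hτ => ?_⟩
    have hmem : τ * σ * τ⁻¹ ∈ A := (inferInstance : A.Normal).conj_mem σ (halt hodd) τ
    have h1 : r ∣ Nat.card (H.subgroupOf A) := by
      have h := orderOf_dvd_natCard (⟨⟨_, hmem⟩, hτ⟩ : H.subgroupOf A)
      have e : orderOf (⟨⟨_, hmem⟩, hτ⟩ : H.subgroupOf A) = r := by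
        rw [← Subgroup.orderOf_coe, ← Subgroup.orderOf_coe, ← hor]
        exact (MulAut.conj τ).orderOf_eq σ
      rwa [e] at h
    have h2 : r * r ∣ m.factorial := by
      rw [← hA2, ← hnA]
      exact Dvd.dvd.mul_left (mul_dvd_mul hrd h1) 2
    have h3 := (hr.pow_dvd_iff_le_factorization m.factorial_pos.ne').mp (pow_two r ▸ h2)
    rw [factorization_factorial hr hrm hbig] at h3
    omega
  push Not at hbig
  obtain ⟨s, hs, hslo, hshi⟩ := Nat.exists_prime_lt_and_le_two_mul (m / 2) (by omega)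
  haveI := Fact.mk hs
  obtain ⟨c₀, hc₀, hc₀s, hc₀o, hc₀A⟩ := prime_cycle (m := m) hs (by omega)
  have hs2 : s ≠ 2 := by omega
  have hsn : ¬ s ∣ n := fun h => by have := hmax s hs h; omega
  obtain ⟨g, hg⟩ := exists_conj_mem (H.subgroupOf A) (d.index ▸ hsn)
    (c := ⟨c₀, hc₀A (hs.odd_of_ne_two hs2)⟩) ⟨1, by rw [Subgroup.orderOf_mk, hc₀o, pow_one]⟩
  set c : Perm (Fin m) := g * c₀ * (g : Perm (Fin m))⁻¹ with hcdef
  have hcH : c ∈ H := hg
  have hcA : c ∈ A := (inferInstance : A.Normal).conj_mem c₀ (hc₀A (hs.odd_of_ne_two hs2)) g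
  have hcc : c.IsCycle := hc₀.conj
  have hcs : c.support.card = s := by rw [hcdef, Equiv.Perm.card_support_conj, hc₀s]
  -- the trace of `H` on `A` is primitive
  let M : Subgroup (Perm (Fin m)) := H ⊓ A
  haveI := htr
  haveI hMn : (M.subgroupOf H).Normal := ⟨fun x hx g => by
    refine ⟨((g * x * g⁻¹ : H) : H).2, ?_⟩
    exact (inferInstance : A.Normal).conj_mem _ hx.2 g⟩
  have horb : ∀ a : Fin m, MulAction.orbit (M.subgroupOf H) a = MulAction.orbit M a := fun a => by
    ext x
    exact ⟨fun ⟨g, hg⟩ => ⟨⟨_, g.2⟩, hg⟩, fun ⟨g, hg⟩ => ⟨⟨⟨g, g.2.1⟩, g.2⟩, hg⟩⟩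
  have hpow : ∀ (i : ℕ), c ^ i ∈ M := fun i => pow_mem (show c ∈ M from ⟨hcH, hcA⟩) i
  have hsupp : ∀ (B : Set (Fin m)) (x : Fin m), c x ≠ x → x ∈ B → (∀ y ∈ B, c y ∈ B) → s ≤ B.ncard := by
    intro B x hx hxB hB
    rw [← hcs, ← Set.ncard_coe_finset]
    refine Set.ncard_le_ncard (fun y hy => ?_) (Set.toFinite _)
    obtain ⟨i, rfl⟩ := hcc.exists_pow_eq hx (Equiv.Perm.mem_support.mp hy)
    clear hy
    induction i with
    | zero => exact hxB
    | succ i ih => rw [pow_succ', Equiv.Perm.mul_apply]; exact hB _ ih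
  obtain ⟨x₀, hx₀⟩ : ∃ x, c x ≠ x := by
    obtain ⟨x, hx⟩ := Finset.card_pos.mp (hcs ▸ hs.pos : 0 < c.support.card)
    exact ⟨x, Equiv.Perm.mem_support.mp hx⟩
  haveI hMtr : MulAction.IsPretransitive M (Fin m) := by
    have hblock := MulAction.IsBlock.orbit_of_normal (G := H) (N := M.subgroupOf H) (a := x₀)
    have hdiv := hblock.ncard_dvd_card (MulAction.mem_orbit_self x₀ |> fun h => ⟨x₀, h⟩)
    rw [Nat.card_fin] at hdiv
    have hge : s ≤ (MulAction.orbit (M.subgroupOf H) x₀).ncard := by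
      refine hsupp _ x₀ hx₀ (MulAction.mem_orbit_self _) fun y hy => ?_
      rw [horb] at hy ⊢
      obtain ⟨g, rfl⟩ := hy
      exact ⟨(⟨c, hcH, hcA⟩ : M) * g, by show ((⟨c, hcH, hcA⟩ : M) * g) • x₀ = _; rw [mul_smul]; rfl⟩
    have hfull : (MulAction.orbit (M.subgroupOf H) x₀).ncard = m := by
      obtain ⟨q, hq⟩ := hdiv
      rcases q with _ | _ | q
      · simp at hq; omega
      · simpa using hq.symm
      · exfalso
        have h2 := Nat.mul_le_mul_left (MulAction.orbit (M.subgroupOf H) x₀).ncard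
          (show 2 ≤ q + 1 + 1 by omega)
        omega
    have huniv : MulAction.orbit M x₀ = Set.univ := by
      rw [← horb]
      exact Set.eq_of_subset_of_ncard_le (Set.subset_univ _) (by rw [Set.ncard_univ, Nat.card_fin, hfull])
        (Set.toFinite _)
    refine ⟨fun x y => ?_⟩
    obtain ⟨g, hg⟩ : x ∈ MulAction.orbit M x₀ := huniv ▸ Set.mem_univ x
    obtain ⟨g', hg'⟩ : y ∈ MulAction.orbit M x₀ := huniv ▸ Set.mem_univ y
    exact ⟨g' * g⁻¹, by rw [← hg, mul_smul, inv_smul_smul]; exact hg'⟩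
  have hMprim : MulAction.IsPreprimitive M (Fin m) := by
    constructor
    intro B hB
    by_contra hcon
    rw [MulAction.IsTrivialBlock, not_or, Set.not_subsingleton_iff] at hcon
    obtain ⟨⟨y, hy, z, hz, hyz⟩, huniv⟩ := hcon
    have hdiv := hB.ncard_dvd_card ⟨y, hy⟩
    rw [Nat.card_fin] at hdiv
    have hB2 : 2 * B.ncard ≤ m := by
      obtain ⟨q, hq⟩ := hdiv
      rcases q with _ | _ | q
      · simp at hq; omega
      · exfalso
        refine huniv (Set.eq_of_subset_of_ncard_le (Set.subset_univ _) ?_ (Set.toFinite _))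
        rw [Set.ncard_univ, Nat.card_fin]
        simpa using hq.le
      · nlinarith
    obtain ⟨g, hg⟩ := MulAction.exists_smul_eq M y x₀
    have hB' := hB.translate g
    have hmem : x₀ ∈ g • B := ⟨y, hy, hg⟩
    have hcard' : (g • B).ncard = B.ncard := Set.ncard_smul_set g B
    have htwo : 2 ≤ (g • B).ncard := by
      rw [hcard']
      exact (Set.one_lt_ncard (Set.toFinite _)).mpr ⟨y, hy, z, hz, hyz⟩
    set cM : M := ⟨c, hcH, hcA⟩ with hcM
    by_cases hfix : cM • (g • B) = g • B
    · have := hsupp (g • B) x₀ hx₀ hmem fun w hw => by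
        rw [← hfix]
        exact ⟨w, hw, rfl⟩
      omega
    · -- `s` pairwise distinct translates
      have hcs' : cM ^ s = 1 := by
        apply Subtype.ext
        show c ^ s = 1
        have : orderOf c = s := by rw [hcc.orderOf, hcs]
        rw [← this, pow_orderOf_eq_one]
      have hord : orderOf cM = s := by
        rw [← Subgroup.orderOf_coe]
        show orderOf c = s
        rw [hcc.orderOf, hcs]
      have hle := hB'.ncard_block_mul_ncard_orbit_eq ⟨x₀, hmem⟩
      have hs_le : s ≤ (MulAction.orbit M (g • B)).ncard := by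
        have h1 : (MulAction.orbit (Subgroup.zpowers cM) (g • B)).ncard = s := by
          have h2 := MulAction.index_stabilizer (Subgroup.zpowers cM) (g • B)
          have h3 : (MulAction.stabilizer (Subgroup.zpowers cM) (g • B)).index ∣ s := by
            have := (MulAction.stabilizer (Subgroup.zpowers cM) (g • B)).index_dvd_card
            rwa [Nat.card_zpowers, hord] at this
          rcases (Nat.dvd_prime hs).mp h3 with h4 | h4
          · exfalso
            rw [Subgroup.index_eq_one] at h4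
            apply hfix
            have h5 : (⟨cM, Subgroup.mem_zpowers cM⟩ : Subgroup.zpowers cM) ∈
                MulAction.stabilizer (Subgroup.zpowers cM) (g • B) := h4 ▸ Subgroup.mem_top _
            exact MulAction.mem_stabilizer_iff.mp h5
          · omega
        rw [← h1]
        exact Set.ncard_le_ncard (fun z ⟨u, hu⟩ => ⟨(u : M), hu⟩) (Set.toFinite _)
      rw [Nat.card_fin] at hle
      have h6 := Nat.mul_le_mul htwo hs_le
      omega
  have hcontra : ¬ alternatingGroup (Fin m) ≤ M := fun h => d.not_le (h.trans inf_le_left)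
  rcases hr.eq_two_or_odd' with h2 | hodd
  · exfalso
    subst h2
    haveI : Fact (Nat.Prime 3) := ⟨Nat.prime_three⟩
    obtain ⟨t, ht, htc, hto, htA⟩ := prime_cycle (m := m) Nat.prime_three (by omega)
    have h3n : ¬ 3 ∣ n := fun h => by have := hmax 3 Nat.prime_three h; omega
    obtain ⟨a, ha⟩ := exists_conj_mem (H.subgroupOf A) (d.index ▸ h3n)
      (c := ⟨t, htA (by decide)⟩) ⟨1, by rw [Subgroup.orderOf_mk, hto, pow_one]⟩
    have hmemA : (a : Perm (Fin m)) * t * (a : Perm (Fin m))⁻¹ ∈ A :=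
      (inferInstance : A.Normal).conj_mem t (htA (by decide)) a
    refine hcontra (Equiv.Perm.alternatingGroup_le_of_isPreprimitive_of_isThreeCycle_mem hMprim
      (g := (a : Perm (Fin m)) * t * (a : Perm (Fin m))⁻¹) ?_ ⟨ha, hmemA⟩)
    rw [← card_support_eq_three_iff, Equiv.Perm.card_support_conj, htc]
  · obtain ⟨σ, hσc, hσs, hor, halt⟩ := prime_cycle hr hrm
    refine ⟨σ, halt hodd, hor, fun τ hτ => hcontra ?_⟩
    have hr3 : 3 ≤ r := by
      rcases hodd with ⟨i, hi⟩
      have := hr.two_le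
      omega
    exact CfsgLib.Perm.alternatingGroup_le_of_isCycle_prime hMprim hr
      (by rw [Nat.card_fin]; omega) hσc.conj (by rw [Equiv.Perm.card_support_conj, hσs])
      ⟨hτ, (inferInstance : A.Normal).conj_mem σ (halt hodd) τ⟩

theorem Data.avoids {Γ H : Subgroup (Perm (Fin m))} {n r : ℕ} (d : Data Γ H n) (hr : r.Prime)
    (hrd : r ∣ n) (hmax : ∀ s : ℕ, s.Prime → s ∣ n → s ≤ r) : Avoids H r := by
  by_cases h : MulAction.IsPretransitive H (Fin m)
  · exact d.transitive h hr hrd hmax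
  · exact d.intransitive h hr hrd hmax

end CfsgLib.AltDerange
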