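import Mathlib

/-!
# The alternating group of degree six in primitive actions
-/

set_option autoImplicit false
set_option linter.unusedSectionVars false
set_option linter.style.haveILetI false

namespace CfsgLib.AltDerange

open Equiv

variable {M : Type*} [Group M] [Finite M]

/-- If `x` of order `5` normalises the subgroup generated by `y` of order `3`, or conversely, they
commute. -/
theorem order_fifteen {a b : M} {p q : ℕ} (ha : orderOf a = p) (hb : orderOf b = q) (hcop : p.Coprime q)
    (hn : a * b * a⁻¹ ∈ Subgroup.zpowers b) (hfix : ∀ k : ℕ, k < q → k ^ p % q = 1 → k = 1) (hq : 1 < q) :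
    orderOf (a * b) = p * q := by
  classical
  rw [← mem_powers_iff_mem_zpowers, mem_powers_iff_mem_range_orderOf, hb] at hn
  obtain ⟨k, hk, hk'⟩ := Finset.mem_image.mp hn
  rw [Finset.mem_range] at hk
  have hiter : ∀ j : ℕ, a ^ j * b * (a ^ j)⁻¹ = b ^ k ^ j := by
    intro j
    induction j with
    | zero => simp
    | succ j ih =>
      calc a ^ (j + 1) * b * (a ^ (j + 1))⁻¹ = a * (a ^ j * b * (a ^ j)⁻¹) * a⁻¹ := by
            rw [pow_succ']; group
        _ = a * b ^ k ^ j * a⁻¹ := by rw [ih]
        _ = (a * b * a⁻¹) ^ k ^ j := by rw [conj_pow]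
        _ = b ^ k ^ (j + 1) := by rw [← hk', ← pow_mul, pow_succ']
  have h := hiter p
  rw [← ha, pow_orderOf_eq_one, one_mul, inv_one, mul_one, ha] at h
  have h' : b ^ 1 = b ^ k ^ p := by rw [pow_one]; exact h
  rw [pow_eq_pow_iff_modEq, hb] at h'
  have hk1 : k = 1 := hfix k hk (by rw [← Nat.mod_eq_of_lt hq]; exact h'.symm)
  rw [hk1, pow_one] at hk'
  have hc : Commute a b := by
    show a * b = b * a
    conv_rhs => rw [hk']
    group
  rw [hc.orderOf_mul_eq_mul_orderOf_of_coprime (by rwa [ha, hb]), ha, hb]

/-- A group of order `15`, `30` or `45` has an element of order `15`. -/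
theorem exists_order_fifteen (h : Nat.card M = 15 ∨ Nat.card M = 30 ∨ Nat.card M = 45) :
    ∃ g : M, orderOf g = 15 := by
  haveI : Fact (Nat.Prime 5) := ⟨by norm_num⟩
  haveI : Fact (Nat.Prime 3) := ⟨by norm_num⟩
  obtain ⟨x, hx⟩ := exists_prime_orderOf_dvd_card' (G := M) 5 (by rcases h with h | h | h <;> rw [h] <;> norm_num)
  obtain ⟨y, hy⟩ := exists_prime_orderOf_dvd_card' (G := M) 3 (by rcases h with h | h | h <;> rw [h] <;> norm_num)
  obtain ⟨P, hP⟩ := (IsPGroup.of_card (p := 5) (n := 1) (G := Subgroup.zpowers x)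
    (by rw [Nat.card_zpowers, hx, pow_one])).exists_le_sylow
  have hPcard : Nat.card (P : Subgroup M) = 5 := by
    rw [P.card_eq_multiplicity]
    rcases h with h | h | h <;> rw [h]
    · rw [show (15 : ℕ) = 5 * 3 by norm_num, Nat.factorization_mul (by norm_num) (by norm_num)]
      simp [Nat.Prime.factorization_self (show Nat.Prime 5 by norm_num), Nat.factorization_eq_zero_of_not_dvd (show ¬ 5 ∣ 3 by norm_num)]
    · rw [show (30 : ℕ) = 5 * 6 by norm_num, Nat.factorization_mul (by norm_num) (by norm_num)]
      simp [Nat.Prime.factorization_self (show Nat.Prime 5 by norm_num), Nat.factorization_eq_zero_of_not_dvd (show ¬ 5 ∣ 6 by norm_num)]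
    · rw [show (45 : ℕ) = 5 * 9 by norm_num, Nat.factorization_mul (by norm_num) (by norm_num)]
      simp [Nat.Prime.factorization_self (show Nat.Prime 5 by norm_num), Nat.factorization_eq_zero_of_not_dvd (show ¬ 5 ∣ 9 by norm_num)]
  have hPx : (P : Subgroup M) = Subgroup.zpowers x :=
    (Subgroup.eq_of_le_of_card_ge hP (by rw [Nat.card_zpowers, hx, hPcard])).symm
  by_cases hn : Subgroup.normalizer ((P : Subgroup M) : Set M) = ⊤
  · -- `y` normalises `⟨x⟩`
    refine ⟨y * x, ?_⟩
    rw [order_fifteen hy hx (by norm_num) ?_ (fun k hk h' => by interval_cases k <;> simp_all) (by norm_num)]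
    rw [← hPx]
    have : y ∈ Subgroup.normalizer ((P : Subgroup M) : Set M) := hn ▸ Subgroup.mem_top y
    exact (Subgroup.mem_normalizer_iff.mp this x).mp (hP (Subgroup.mem_zpowers x))
  · have hidx := P.card_eq_index_normalizer
    have hmod := card_sylow_modEq_one 5 M
    have hdvd := P.card_dvd_index
    have hne : Nat.card (Sylow 5 M) ≠ 1 := fun h1 => hn (Subgroup.index_eq_one.mp (hidx.symm.trans h1))
    have hPi : (P : Subgroup M).index * 5 = Nat.card M := by
      have := (P : Subgroup M).index_mul_card
      rwa [hPcard] at this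
    have h30 : Nat.card M = 30 ∧ Nat.card (Sylow 5 M) = 6 := by
      rcases h with h | h | h
      · exfalso
        have hi : (P : Subgroup M).index = 3 := by omega
        rw [hi] at hdvd
        have := Nat.le_of_dvd (by norm_num) hdvd
        unfold Nat.ModEq at hmod
        omega
      · refine ⟨h, ?_⟩
        have hi : (P : Subgroup M).index = 6 := by omega
        rw [hi] at hdvd
        have := Nat.le_of_dvd (by norm_num) hdvd
        unfold Nat.ModEq at hmod
        omega
      · exfalso
        have hi : (P : Subgroup M).index = 9 := by omega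
        rw [hi] at hdvd
        have := Nat.le_of_dvd (by norm_num) hdvd
        unfold Nat.ModEq at hmod
        rcases (show Nat.card (Sylow 5 M) = 6 by omega) with h6
        rw [h6] at hdvd
        omega
    obtain ⟨h30, h6⟩ := h30
    -- `N(P) = P`, so there is a normal `5`-complement
    have hN : Subgroup.normalizer ((P : Subgroup M) : Set M) = (P : Subgroup M) := by
      refine (Subgroup.eq_of_le_of_card_ge Subgroup.le_normalizer ?_).symm
      have := (Subgroup.normalizer ((P : Subgroup M) : Set M)).index_mul_card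
      have hi' : (Subgroup.normalizer ((P : Subgroup M) : Set M)).index = 6 := hidx.symm.trans h6
      rw [hi', h30] at this
      omega
    have hle : Subgroup.normalizer ((P : Subgroup M) : Set M) ≤ Subgroup.centralizer ((P : Subgroup M) : Set M) := by
      rw [hN]
      intro a ha b hb
      rw [hPx] at ha
      have hb' : b ∈ Subgroup.zpowers x := hPx ▸ hb
      obtain ⟨i, rfl⟩ := Subgroup.mem_zpowers_iff.mp ha
      obtain ⟨j, rfl⟩ := Subgroup.mem_zpowers_iff.mp hb'
      exact (Commute.zpow_zpow_self x j i).eq
    have hc := MonoidHom.ker_transferSylow_isComplement' P hle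
    set K := (MonoidHom.transferSylow P hle).ker with hK
    have hKc : Nat.card K = 6 := by
      have := hc.card_mul
      rw [hPcard, h30] at this
      omega
    have hKall : ∀ z : M, orderOf z = 3 → z ∈ K := fun z hz => by
      rw [← QuotientGroup.eq_one_iff, ← orderOf_eq_one_iff]
      refine Nat.eq_one_of_dvd_coprimes (show Nat.Coprime 3 5 by norm_num)
        (hz ▸ orderOf_map_dvd (QuotientGroup.mk' K) z) ?_
      have h1 := orderOf_dvd_natCard (z : M ⧸ K)
      have h2 : Nat.card (M ⧸ K) = 5 := by
        have := Subgroup.card_eq_card_quotient_mul_card_subgroup K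
        rw [h30, hKc] at this
        omega
      rwa [h2] at h1
    -- the elements of order three form one subgroup
    have huniq : x * y * x⁻¹ ∈ Subgroup.zpowers y := by
      have hyK := hKall y hy
      have hzK := hKall (x * y * x⁻¹) (by rw [← hy]; exact (MulAut.conj x).orderOf_eq y)
      have hsub : Subgroup.zpowers (⟨y, hyK⟩ : K) = Subgroup.zpowers (⟨_, hzK⟩ : K) := by
        have hQ : ∀ z : M, ∀ hz : z ∈ K, orderOf z = 3 → ∃ Q : Sylow 3 K, (Q : Subgroup K) = Subgroup.zpowers (⟨z, hz⟩ : K) := by
          intro z hz h3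
          refine ⟨Sylow.ofCard (Subgroup.zpowers (⟨z, hz⟩ : K)) ?_, rfl⟩
          rw [Nat.card_zpowers, Subgroup.orderOf_mk, h3, hKc, show (6 : ℕ) = 3 * 2 by norm_num,
            Nat.factorization_mul (by norm_num) (by norm_num)]
          simp [Nat.Prime.factorization_self (show Nat.Prime 3 by norm_num), Nat.factorization_eq_zero_of_not_dvd (show ¬ 3 ∣ 2 by norm_num)]
        obtain ⟨Q₁, h1⟩ := hQ y hyK hy
        obtain ⟨Q₂, h2⟩ := hQ _ hzK (by rw [← hy]; exact (MulAut.conj x).orderOf_eq y)
        have hm3 := card_sylow_modEq_one 3 K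
        have hd3 := Q₁.card_dvd_index
        have hi : (Q₁ : Subgroup K).index = 2 := by
          have := (Q₁ : Subgroup K).index_mul_card
          rw [h1, Nat.card_zpowers, Subgroup.orderOf_mk, hy, hKc] at this
          rw [h1]
          omega
        rw [hi] at hd3
        have h1' : Nat.card (Sylow 3 K) = 1 := by
          have := Nat.le_of_dvd (by norm_num) hd3
          unfold Nat.ModEq at hm3
          omega
        haveI : Subsingleton (Sylow 3 K) := (Nat.card_eq_one_iff_unique.mp h1').1
        rw [← h1, ← h2, Subsingleton.elim Q₁ Q₂]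
      obtain ⟨i, hi⟩ := Subgroup.mem_zpowers_iff.mp (hsub ▸ Subgroup.mem_zpowers (⟨_, hzK⟩ : K))
      exact Subgroup.mem_zpowers_iff.mpr ⟨i, congrArg Subtype.val hi⟩
    exact ⟨x * y, order_fifteen hx hy (by norm_num) huniq
      (fun k hk h' => by interval_cases k <;> simp_all) (by norm_num)⟩

theorem not_order_fifteen (σ : Perm (Fin 6)) : orderOf σ ≠ 15 := by
  intro h
  have hsum : σ.cycleType.sum ≤ 6 := by
    rw [σ.sum_cycleType]
    simpa using σ.support.card_le_univ
  have h5 : ∃ a ∈ σ.cycleType, 5 ∣ a := by
    by_contra hno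
    push Not at hno
    have hd : orderOf σ ∣ 24 := by
      rw [← σ.lcm_cycleType, Multiset.lcm_dvd]
      intro a ha
      have h2 := Equiv.Perm.two_le_of_mem_cycleType ha
      have hle : a ≤ 6 := (Multiset.le_sum_of_mem ha).trans hsum
      have := hno a ha
      interval_cases a <;> first | omega | norm_num
    rw [h] at hd
    norm_num at hd
  obtain ⟨a, ha, h5a⟩ := h5
  have hd : orderOf σ ∣ 5 := by
    have h2 := Equiv.Perm.two_le_of_mem_cycleType ha
    have hle : a ≤ 6 := (Multiset.le_sum_of_mem ha).trans hsum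
    have ha5 : a = 5 := by omega
    subst ha5
    obtain ⟨t, ht⟩ := Multiset.exists_cons_of_mem ha
    rcases Multiset.empty_or_exists_mem t with rfl | ⟨b, hb⟩
    · rw [← σ.lcm_cycleType, ht]; simp
    · exfalso
      have h2b := Equiv.Perm.two_le_of_mem_cycleType (show b ∈ σ.cycleType by rw [ht]; exact Multiset.mem_cons_of_mem hb)
      have := Multiset.le_sum_of_mem hb
      rw [ht, Multiset.sum_cons] at hsum
      omega
  rw [h] at hd
  norm_num at hd

end CfsgLib.AltDerange
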