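import Cfsg.Agent.Lib.AltDerange.Core
import Cfsg.Agent.Lib.AltDerange.Six
import Cfsg.Agent.Lib.Perm.AutAlternating

/-!
# Derangements of the largest prime order in primitive groups with alternating socle
-/

set_option autoImplicit false
set_option linter.unusedSectionVars false
set_option linter.style.haveILetI false

namespace CfsgLib.AltDerange

open Equiv MulAction

variable {G Ω : Type*} [Group G] [MulAction G Ω]

/-- An element with no conjugate in a point stabiliser fixes no point. -/
theorem no_fixed_point [IsPretransitive G Ω] {g : G} (ω₀ : Ω)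
    (h : ∀ a : G, a * g * a⁻¹ ∉ stabilizer G ω₀) (ω : Ω) : g • ω ≠ ω := by
  intro hfix
  obtain ⟨a, ha⟩ := exists_smul_eq G ω ω₀
  refine h a ?_
  rw [mem_stabilizer_iff, mul_smul, mul_smul, ← ha, inv_smul_smul, hfix]

variable [Finite G] [FaithfulSMul G Ω] [Finite Ω] {T : Subgroup G} {m : ℕ}

/-- Degree different from six: everything happens inside the symmetric group of degree `m`. -/
theorem exists_derangement_ne_six (hT : T.Normal) (hTc : Subgroup.centralizer (T : Set G) = ⊥)
    (hm : 5 ≤ m) (h6 : m ≠ 6) (eT : T ≃* alternatingGroup (Fin m)) [IsPreprimitive G Ω] [Nontrivial Ω]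
    [IsPretransitive T Ω] (ω₀ : Ω) {r : ℕ} (hr : r.Prime) (hrd : r ∣ Nat.card Ω)
    (hmax : ∀ s : ℕ, s.Prime → s ∣ Nat.card Ω → s ≤ r) :
    ∃ g : G, orderOf g = r ∧ ∀ ω : Ω, g • ω ≠ ω := by
  let E : Perm (Fin m) ≃* MulAut (alternatingGroup (Fin m)) :=
    MulEquiv.ofBijective MulAut.conjNormal ⟨CfsgLib.AutAlternating.conjNormal_injective (by omega),
      fun phi => CfsgLib.AutAlternating.eq_conj (by omega) h6 phi⟩
  haveI := hT
  let φ : G →* Perm (Fin m) :=
    (E.symm.toMonoidHom.comp (MulAut.congr eT).toMonoidHom).comp MulAut.conjNormal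
  have hker : Function.Injective φ := by
    rw [injective_iff_map_eq_one]
    intro g hg
    have h1 : (MulAut.conjNormal g : MulAut T) = 1 := by
      apply (MulAut.congr eT).injective
      apply E.symm.injective
      rw [map_one, map_one]
      exact hg
    rw [← Subgroup.mem_bot, ← hTc, Subgroup.mem_centralizer_iff]
    intro t ht
    have h2 := congrArg Subtype.val (MulEquiv.congr_fun h1 ⟨t, ht⟩)
    rw [MulAut.conjNormal_apply, MulAut.one_apply] at h2
    have h3 : g * t = t * g := mul_inv_eq_iff_eq_mul.mp h2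
    exact h3.symm
  have hφT : ∀ t : T, φ (t : G) = (eT t : Perm (Fin m)) := by
    intro t
    apply E.injective
    show E (E.symm (MulAut.congr eT (MulAut.conjNormal (t : G)))) = _
    rw [MulEquiv.apply_symm_apply]
    apply MulEquiv.ext
    intro x
    apply Subtype.ext
    show ((MulAut.congr eT (MulAut.conjNormal (t : G)) x : alternatingGroup (Fin m)) : Perm (Fin m)) =
      ((MulAut.conjNormal (eT t : Perm (Fin m)) x : alternatingGroup (Fin m)) : Perm (Fin m))
    rw [MulAut.conjNormal_apply, MulAut.congr_apply]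
    have h1 : (MulAut.conjNormal (t : G) : MulAut T) (eT.symm x) = t * eT.symm x * t⁻¹ :=
      Subtype.ext (by rw [MulAut.conjNormal_apply]; rfl)
    show ((eT ((MulAut.conjNormal (t : G)) (eT.symm x)) : alternatingGroup (Fin m)) : Perm (Fin m)) = _
    rw [h1, map_mul, map_mul, map_inv, MulEquiv.apply_symm_apply]
    rfl
  set H := stabilizer G ω₀ with hH
  have hcoatom : IsCoatom H := IsPreprimitive.isCoatom_stabilizer_of_isPreprimitive G ω₀
  have hAle : alternatingGroup (Fin m) ≤ φ.range := fun x hx =>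
    ⟨eT.symm ⟨x, hx⟩, by rw [hφT, MulEquiv.apply_symm_apply]⟩
  have hnle : ¬ T ≤ H := by
    intro hle
    obtain ⟨ω, hω⟩ := exists_ne ω₀
    obtain ⟨t, ht⟩ := exists_smul_eq T ω₀ ω
    exact hω (ht.symm.trans (mem_stabilizer_iff.mp (hle t.2)))
  have hd : Data φ.range (H.map φ) (Nat.card Ω) := by
    refine ⟨hm, hAle, Subgroup.map_le_range φ H, ?_, ?_, ?_⟩
    · intro K hHK hKΓ hne
      rcases hcoatom.le_iff.mp (Subgroup.map_le_iff_le_comap.mp hHK) with htop | heq
      · refine absurd (le_antisymm hKΓ ?_) hne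
        rintro x ⟨g, rfl⟩
        have h1 : g ∈ K.comap φ := by rw [htop]; exact Subgroup.mem_top g
        exact h1
      · rw [← heq, Subgroup.map_comap_eq_self hKΓ]
    · intro hle
      apply hnle
      intro t ht
      have h1 : φ (t : G) ∈ H.map φ := hle (by rw [hφT ⟨t, ht⟩]; exact (eT ⟨t, ht⟩).2)
      exact (Subgroup.mem_map_iff_mem hker).mp h1
    · have hsub : (H.map φ).subgroupOf (alternatingGroup (Fin m)) =
          (H.subgroupOf T).map eT.toMonoidHom := by
        ext x
        obtain ⟨t, rfl⟩ := eT.surjective x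
        rw [Subgroup.mem_subgroupOf, ← hφT, Subgroup.mem_map_iff_mem hker]
        exact (Subgroup.mem_map_iff_mem eT.injective (K := H.subgroupOf T) (x := t)).symm
      rw [hsub]
      have hst : H.subgroupOf T = stabilizer T ω₀ := by
        ext t
        rfl
      show Nat.card Ω = (Subgroup.map (eT : T →* alternatingGroup (Fin m)) (H.subgroupOf T)).index
      rw [Subgroup.index_map_equiv, hst, index_stabilizer_of_transitive]
  obtain ⟨σ, hσA, hor, hav⟩ := hd.avoids hr hrd hmax
  refine ⟨((eT.symm ⟨σ, hσA⟩ : T) : G), ?_, no_fixed_point ω₀ fun a ha => hav (φ a) ?_⟩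
  · rw [Subgroup.orderOf_coe, MulEquiv.orderOf_eq, Subgroup.orderOf_mk, hor]
  · refine ⟨_, ha, ?_⟩
    rw [map_mul, map_mul, map_inv, hφT, MulEquiv.apply_symm_apply]

/-- Degree six. -/
theorem exists_derangement_six (hT : T.Normal) (eT : T ≃* alternatingGroup (Fin 6))
    [IsPreprimitive G Ω] [Nontrivial Ω] [IsPretransitive T Ω] (ω₀ : Ω) {r : ℕ} (hr : r.Prime)
    (hrd : r ∣ Nat.card Ω) (hmax : ∀ s : ℕ, s.Prime → s ∣ Nat.card Ω → s ≤ r) :
    ∃ g : G, orderOf g = r ∧ ∀ ω : Ω, g • ω ≠ ω := by
  classical
  haveI := Fact.mk hr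
  have hTcard : Nat.card T = 360 := by
    have h1 : 2 * Nat.card (alternatingGroup (Fin 6)) = 720 := by
      rw [two_mul_nat_card_alternatingGroup, Nat.card_perm, Nat.card_fin]
      rfl
    rw [Nat.card_congr eT.toEquiv]
    omega
  set M := stabilizer T ω₀ with hM
  set n := Nat.card Ω with hn
  have hnM : n * Nat.card M = 360 := by
    rw [hn, ← index_stabilizer_of_transitive T ω₀, Subgroup.index_mul_card, hTcard]
  have hn1 : 1 < n := Finite.one_lt_card
  by_cases hrM : r ∣ Nat.card M
  · -- `r` divides the index and the order of the stabiliser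
    have hrr : r * r ∣ 360 := by rw [← hnM]; exact mul_dvd_mul hrd hrM
    have hr5 : r = 2 ∨ r = 3 := by
      have hle : r * r ≤ 360 := Nat.le_of_dvd (by norm_num) hrr
      have hr20 : r < 20 := by nlinarith
      have h2 := hr.two_le
      interval_cases r <;> first | omega | (exfalso; norm_num at hr) | (exfalso; norm_num at hrr)
    have h5n : ¬ 5 ∣ n := fun h => by have := hmax 5 (by norm_num) h; omega
    have hn24 : n ∣ 24 := by
      rcases hr5 with rfl | rfl
      · have h3n : ¬ 3 ∣ n := fun h => by have := hmax 3 (by norm_num) h; omega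
        have hd : n ∣ 8 * (3 * 3 * 5) := ⟨Nat.card M, by rw [hnM]⟩
        have c3 : n.Coprime 3 := ((Nat.prime_three.coprime_iff_not_dvd).mpr h3n).symm
        have c5 : n.Coprime 5 := (((by norm_num : Nat.Prime 5).coprime_iff_not_dvd).mpr h5n).symm
        exact (((c3.mul_right c3).mul_right c5).dvd_of_dvd_mul_right hd).trans (by norm_num)
      · have c5 : n.Coprime 5 := (((by norm_num : Nat.Prime 5).coprime_iff_not_dvd).mpr h5n).symm
        obtain ⟨b, hb⟩ := hrM
        have hd : n ∣ 24 * 5 := ⟨b, by
          rw [hb] at hnM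
          nlinarith⟩
        exact c5.dvd_of_dvd_mul_right hd
    have hn6 : 6 ≤ n := by
      by_contra hlt
      push Not at hlt
      haveI : FaithfulSMul T Ω := ⟨fun h => Subtype.ext (FaithfulSMul.eq_of_smul_eq_smul h)⟩
      have h1 : Nat.card T ∣ Nat.card (Perm Ω) :=
        Subgroup.card_dvd_of_injective (toPermHom T Ω) toPerm_injective
      rw [hTcard, Nat.card_perm, ← hn] at h1
      interval_cases n <;> norm_num [Nat.factorial] at h1
    rcases eq_or_ne n 6 with hn6' | hne
    · -- the natural action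
      haveI : Fintype Ω := Fintype.ofFinite Ω
      let e : Ω ≃ Fin 6 := Fintype.equivFinOfCardEq (by rw [← Nat.card_eq_fintype_card, ← hn, hn6'])
      let θ : G →* Perm (Fin 6) := (Equiv.permCongrHom e).toMonoidHom.comp (toPermHom G Ω)
      have hθ : ∀ (g : G) (ω : Ω), θ g (e ω) = e (g • ω) := fun g ω => by
        show e (g • e.symm (e ω)) = _
        rw [Equiv.symm_apply_apply]
      have hθi : Function.Injective θ := fun a b hab => FaithfulSMul.eq_of_smul_eq_smul fun ω =>
        e.injective (by rw [← hθ, ← hθ, hab])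
      have himg : T.map θ = alternatingGroup (Fin 6) := by
        apply Equiv.Perm.eq_alternatingGroup_of_index_eq_two
        have h1 := (T.map θ).index_mul_card
        rw [← Nat.card_congr (T.equivMapOfInjective θ hθi).toEquiv, hTcard, Nat.card_perm,
          Nat.card_fin] at h1
        norm_num [Nat.factorial] at h1
        omega
      have hr3 : r = 3 := by
        have := hmax 3 Nat.prime_three (by rw [hn6']; norm_num)
        omega
      subst hr3
      obtain ⟨σ, hσ, hor, hcard⟩ := exists_cycles (m := 6) (r := 3) (q := 2) (by norm_num) two_pos (by norm_num)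
      have hσA : σ ∈ T.map θ := himg ▸ mem_alt_of_cycles hσ (Or.inr even_two)
      obtain ⟨g, -, rfl⟩ := hσA
      refine ⟨g, ?_, fun ω hω => ?_⟩
      · rw [← hor, orderOf_injective θ hθi]
      · have huniv : (θ g).support = Finset.univ :=
          Finset.eq_univ_of_card _ (by rw [hcard, Fintype.card_fin])
        have h1 : e ω ∈ (θ g).support := by rw [huniv]; exact Finset.mem_univ _
        rw [Equiv.Perm.mem_support, hθ, hω] at h1
        exact h1 rfl
    · exfalso
      have hcard : Nat.card M = 15 ∨ Nat.card M = 30 ∨ Nat.card M = 45 := by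
        have hle : n ≤ 24 := Nat.le_of_dvd (by norm_num) hn24
        interval_cases n <;> omega
      obtain ⟨g, hg⟩ := exists_order_fifteen hcard
      refine not_order_fifteen ((eT (g : T) : alternatingGroup (Fin 6)) : Perm (Fin 6)) ?_
      rw [Subgroup.orderOf_coe, MulEquiv.orderOf_eq, Subgroup.orderOf_coe, hg]
  · -- any element of order `r` of `T` will do
    have hrT : r ∣ Nat.card T := by
      rw [hTcard, ← hnM]
      exact hrd.mul_right _
    obtain ⟨t, ht⟩ := exists_prime_orderOf_dvd_card' r hrT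
    refine ⟨t, by rw [Subgroup.orderOf_coe, ht], no_fixed_point ω₀ fun a ha => hrM ?_⟩
    have hmem : a * (t : G) * a⁻¹ ∈ T := hT.conj_mem _ t.2 a
    have hM' : (⟨_, hmem⟩ : T) ∈ M := ha
    have h1 := orderOf_dvd_natCard (⟨_, hM'⟩ : M)
    rwa [Subgroup.orderOf_mk, Subgroup.orderOf_mk,
      show orderOf (a * (t : G) * a⁻¹) = r from
        ((MulAut.conj a).orderOf_eq (t : G)).trans (by rw [Subgroup.orderOf_coe, ht])] at h1

theorem exists_derangement (hT : T.Normal) (hTc : Subgroup.centralizer (T : Set G) = ⊥)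
    (hm : 5 ≤ m) (eT : T ≃* alternatingGroup (Fin m)) (hprim : IsPreprimitive G Ω)
    (hΩ : 2 ≤ Nat.card Ω) {r : ℕ} (hr : r.Prime) (hrd : r ∣ Nat.card Ω)
    (hmax : ∀ s : ℕ, s.Prime → s ∣ Nat.card Ω → s ≤ r) :
    ∃ g : G, orderOf g = r ∧ ∀ ω : Ω, g • ω ≠ ω := by
  haveI : Nontrivial Ω := Finite.one_lt_card_iff_nontrivial.mp hΩ
  haveI := hprim
  obtain ⟨ω₀⟩ : Nonempty Ω := inferInstance
  haveI : IsPretransitive T Ω := by
    haveI := hT
    refine IsQuasiPreprimitive.isPretransitive_of_normal (G := G) ?_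
    intro hall
    have hbot : T = ⊥ := by
      rw [eq_bot_iff]
      intro t ht
      rw [Subgroup.mem_bot]
      refine FaithfulSMul.eq_of_smul_eq_smul (α := Ω) fun ω => ?_
      rw [one_smul]
      exact (Set.eq_univ_iff_forall.mp hall ω) ⟨t, ht⟩
    haveI : Subsingleton (alternatingGroup (Fin m)) := by
      subst hbot
      exact eT.symm.toEquiv.subsingleton
    have h1 : 2 * Nat.card (alternatingGroup (Fin m)) = m.factorial := by
      haveI : Nontrivial (Fin m) := Fin.nontrivial_iff_two_le.mpr (by omega)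
      rw [two_mul_nat_card_alternatingGroup, Nat.card_perm, Nat.card_fin]
    rw [Nat.card_of_subsingleton (1 : alternatingGroup (Fin m))] at h1
    have h5 : Nat.factorial 5 ≤ m.factorial := Nat.factorial_le hm
    norm_num [Nat.factorial] at h5
    omega
  by_cases h6 : m = 6
  · subst h6
    exact exists_derangement_six hT eT ω₀ hr hrd hmax
  · exact exists_derangement_ne_six hT hTc hm h6 eT ω₀ hr hrd hmax

end CfsgLib.AltDerange
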